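import Groth.Agent.Lib.ARSys.Sub
import Mathlib.CategoryTheory.Simple
import Mathlib.CategoryTheory.Subobject.ArtinianObject
import Mathlib.CategoryTheory.Subobject.NoetherianObject
import Mathlib.CategoryTheory.Abelian.Refinements
import Mathlib.Order.JordanHolder
import Mathlib.Order.OrderIsoNat

/-!
# Finite length objects and the Jordan–Hölder theorem in abelian categories
-/

set_option autoImplicit false

universe v u

open CategoryTheory CategoryTheory.Limits Groth.Agent.AR

namespace Groth.Agent.SubobjJH8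

variable {A : Type u} [Category.{v} A] [Abelian A] {X : A}

/-- The quotient of an interval of subobjects. -/
noncomputable abbrev quot {S T : Subobject X} (h : S ≤ T) : A := cokernel (Subobject.ofLE S T h)

theorem factors_of_comp_π {S T : Subobject X} (h : S ≤ T) {W : A} (x : W ⟶ (T : A))
    (hx : x ≫ cokernel.π (Subobject.ofLE S T h) = 0) : S.Factors (x ≫ T.arrow) := by
  have e : (ShortComplex.mk (Subobject.ofLE S T h) (cokernel.π _) (cokernel.condition _)).Exact :=
    ShortComplex.exact_of_g_is_cokernel _ (cokernelIsCokernel _)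
  obtain ⟨W', π, hπ, a, ha⟩ := e.exact_up_to_refinements x hx
  refine factors_of_epi_comp π _ ?_
  dsimp at ha
  rw [reassoc_of% ha, Subobject.ofLE_arrow]
  exact factors_comp_arrow S a

theorem comp_π_of_factors {S T : Subobject X} (h : S ≤ T) {W : A} (x : W ⟶ (T : A))
    (hx : S.Factors (x ≫ T.arrow)) : x ≫ cokernel.π (Subobject.ofLE S T h) = 0 := by
  have : x = S.factorThru _ hx ≫ Subobject.ofLE S T h := by
    rw [← cancel_mono T.arrow, Category.assoc, Subobject.ofLE_arrow, Subobject.factorThru_arrow]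
  rw [this, Category.assoc, cokernel.condition, comp_zero]

theorem isZero_quot_iff {S T : Subobject X} (h : S ≤ T) : IsZero (quot h) ↔ S = T := by
  refine ⟨fun hz => le_antisymm h (le_of_forall_factors fun W w hw => ?_), fun e => ?_⟩
  · have := factors_of_comp_π h (T.factorThru w hw) (hz.eq_of_tgt _ _)
    rwa [Subobject.factorThru_arrow] at this
  · subst e
    rw [IsZero.iff_id_eq_zero, ← cancel_epi (cokernel.π (Subobject.ofLE S S h)), comp_zero, Category.comp_id]
    exact (Category.id_comp _).symm.trans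
      (comp_π_of_factors h (𝟙 _) (by rw [Category.id_comp]; exact factors_arrow_of_le le_rfl))

theorem covBy_of_simple {S T : Subobject X} (h : S ≤ T) (hs : Simple (quot h)) : S ⋖ T := by
  refine ⟨lt_of_le_of_ne h fun e => Simple.not_isZero _ ((isZero_quot_iff h).2 e), fun U hSU hUT => ?_⟩
  let g : (U : A) ⟶ quot h := Subobject.ofLE U T hUT.le ≫ cokernel.π _
  have hg : g ≠ 0 := fun e => hSU.not_ge <| le_of_forall_factors fun W w hw => by
    have := factors_of_comp_π h (U.factorThru w hw ≫ Subobject.ofLE U T hUT.le)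
      (by rw [Category.assoc]; exact (congrArg (_ ≫ ·) e).trans comp_zero)
    rwa [Category.assoc, Subobject.ofLE_arrow, Subobject.factorThru_arrow] at this
  haveI : Epi g := epi_of_nonzero_to_simple hg
  refine hUT.not_ge (le_of_forall_factors fun W w hw => ?_)
  obtain ⟨W', π, hπ, a, ha⟩ := surjective_up_to_refinements_of_epi g (T.factorThru w hw ≫ cokernel.π _)
  refine factors_of_epi_comp π _ ?_
  have h1 := factors_of_comp_π h (π ≫ T.factorThru w hw - a ≫ Subobject.ofLE U T hUT.le) (by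
    rw [Preadditive.sub_comp, Category.assoc, Category.assoc, ha, sub_self])
  rw [Preadditive.sub_comp, Category.assoc, Category.assoc, Subobject.ofLE_arrow,
    Subobject.factorThru_arrow] at h1
  have h2 := Subobject.factors_add _ _ (Subobject.factors_of_le _ hSU.le h1) (factors_comp_arrow U a)
  simpa using h2

theorem simple_of_covBy {S T : Subobject X} (h : S ⋖ T) : Simple (quot h.le) := by
  refine ⟨fun {M} m hm => ⟨fun hi e => ?_, fun hne => ?_⟩⟩
  · subst e
    exact h.ne ((isZero_quot_iff h.le).1 ((IsZero.iff_id_eq_zero _).2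
      (by rw [← IsIso.inv_hom_id (0 : M ⟶ quot h.le), comp_zero])))
  · let π := cokernel.π (Subobject.ofLE S T h.le)
    haveI : Mono (pullback.fst π m) := inferInstance
    let U : Subobject X := Subobject.mk (pullback.fst π m ≫ T.arrow)
    have hUT : U ≤ T := le_of_forall_factors fun W w hw => by
      obtain ⟨(a : W ⟶ pullback π m), (ha : a ≫ pullback.fst π m ≫ T.arrow = w)⟩ :=
        (Subobject.mk_factors_iff _ _).1 hw
      rw [← ha, ← Category.assoc]
      exact factors_comp_arrow T _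
    have hSU : S ≤ U := le_of_forall_factors fun W w hw => by
      have h0 := comp_π_of_factors h.le (T.factorThru w (Subobject.factors_of_le _ h.le hw))
        (by rw [Subobject.factorThru_arrow]; exact hw)
      exact (Subobject.mk_factors_iff _ _).2 ⟨pullback.lift _ 0 (by rw [h0, zero_comp]),
        (pullback.lift_fst_assoc _ _ _ _).trans (Subobject.factorThru_arrow _ _ _)⟩
    rcases eq_or_lt_of_le hSU with e | hlt
    · exfalso
      apply hne
      have h0 := comp_π_of_factors h.le (pullback.fst π m) (Subobject.factors_of_le _ e.ge (Subobject.mk_factors_self _))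
      rw [show cokernel.π (Subobject.ofLE S T h.le) = π from rfl, pullback.condition] at h0
      exact (cancel_epi (pullback.snd π m)).1 (h0.trans comp_zero.symm)
    · have e : U = T := hUT.eq_of_not_lt fun h' => h.2 hlt h'
      have hT : U.Factors T.arrow := by rw [e]; exact factors_arrow_of_le le_rfl
      obtain ⟨(a : (T : A) ⟶ pullback π m), (ha : a ≫ pullback.fst π m ≫ T.arrow = T.arrow)⟩ :=
        (Subobject.mk_factors_iff _ _).1 hT
      haveI : IsSplitEpi (pullback.fst π m) :=
        IsSplitEpi.mk' ⟨a, by rw [← cancel_mono T.arrow, Category.assoc, ha, Category.id_comp]⟩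
      haveI : Epi m := epi_of_epi_fac (f := pullback.snd π m) (h := pullback.fst π m ≫ π) pullback.condition.symm
      exact isIso_of_mono_of_epi m

theorem second_iso {S T : Subobject X} :
    Nonempty (quot (inf_le_right : S ⊓ T ≤ T) ≅ quot (le_sup_left : S ≤ S ⊔ T)) := by
  let φ : quot (inf_le_right : S ⊓ T ≤ T) ⟶ quot (le_sup_left : S ≤ S ⊔ T) :=
    cokernel.map _ _ (Subobject.ofLE _ _ inf_le_left) (Subobject.ofLE T _ le_sup_right) (by simp)
  have : Mono φ := by
    refine Preadditive.mono_of_cancel_zero _ fun {W} k hk => ?_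
    obtain ⟨W', π, hπ, x, hx⟩ := surjective_up_to_refinements_of_epi (cokernel.π _) k
    rw [← cancel_epi π, comp_zero, hx]
    refine comp_π_of_factors _ _ ((Subobject.inf_factors _).2 ⟨?_, factors_comp_arrow T x⟩)
    have h1 := factors_of_comp_π (le_sup_left : S ≤ S ⊔ T) (x ≫ Subobject.ofLE T _ le_sup_right) (by
      have : x ≫ cokernel.π _ ≫ φ = 0 := by rw [← reassoc_of% hx, hk, comp_zero]
      simpa [φ] using this)
    simpa using h1
  have : Epi φ := by
    refine Preadditive.epi_of_cancel_zero _ fun {W} k hk => ?_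
    rw [← cancel_epi (cokernel.π (Subobject.ofLE S (S ⊔ T) le_sup_left)), comp_zero]
    obtain ⟨W', π, hπ, y, z, hy, hz, e⟩ := (factors_sup_iff (S ⊔ T).arrow).1 (factors_arrow_of_le le_rfl)
    rw [← cancel_epi π, comp_zero]
    have e' : π = S.factorThru y hy ≫ Subobject.ofLE S _ le_sup_left +
        T.factorThru z hz ≫ Subobject.ofLE T _ le_sup_right := by
      rw [← cancel_mono (S ⊔ T).arrow]; simpa using e
    have h2 : Subobject.ofLE T _ le_sup_right ≫ cokernel.π (Subobject.ofLE S (S ⊔ T) le_sup_left) ≫ k = 0 := by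
      have := congrArg (cokernel.π (Subobject.ofLE (S ⊓ T) T inf_le_right) ≫ ·) hk
      simpa [φ] using this
    rw [e']
    simp [h2, cokernel.condition_assoc]
  have := isIso_of_mono_of_epi φ
  exact ⟨asIso φ⟩

theorem wellFoundedLT_Iic {S T : Subobject X} (h : S ⋖ T) [WellFoundedLT (Set.Iic S)] :
    WellFoundedLT (Set.Iic T) := by
  classical
  refine StrictMono.wellFoundedLT (f := fun U : Set.Iic T => ((⟨U.1 ⊓ S, Set.mem_Iic.2 inf_le_right⟩ : Set.Iic S),
    if U.1 ≤ S then (0 : Fin 2) else 1)) fun U V hUV => ?_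
  have h1 : (⟨U.1 ⊓ S, Set.mem_Iic.2 inf_le_right⟩ : Set.Iic S) ≤ ⟨V.1 ⊓ S, Set.mem_Iic.2 inf_le_right⟩ := inf_le_inf_right S hUV.le
  refine lt_of_le_of_ne ⟨h1, ?_⟩ fun e => hUV.ne (Subtype.ext ?_)
  · dsimp only
    split_ifs with h2 h3 h4 <;> first | exact absurd ((show U.1 ≤ V.1 from hUV.le).trans ‹V.1 ≤ S›) ‹¬ U.1 ≤ S› | simp
  · obtain ⟨e1, e2⟩ := Prod.mk.inj e
    refine eq_of_le_of_inf_le_of_sup_le (z := S) hUV.le (Subtype.ext_iff.1 e1).ge ?_
    by_cases hV : V.1 ≤ S
    · rw [sup_eq_right.2 hV]; exact le_sup_right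
    · have hU : ¬ U.1 ≤ S := fun hU => by simp [hU, hV] at e2
      have hU' : U.1 ⊔ S = T :=
        (h.eq_or_eq le_sup_right (sup_le U.2 h.le)).resolve_left fun e3 => hU (sup_eq_right.1 e3)
      rw [hU']
      exact sup_le V.2 h.le

theorem wellFoundedGT_Iic {S T : Subobject X} (h : S ⋖ T) [WellFoundedGT (Set.Iic S)] :
    WellFoundedGT (Set.Iic T) := by
  classical
  refine StrictMono.wellFoundedGT (f := fun U : Set.Iic T => ((⟨U.1 ⊓ S, Set.mem_Iic.2 inf_le_right⟩ : Set.Iic S),
    if U.1 ≤ S then (0 : Fin 2) else 1)) fun U V hUV => ?_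
  have h1 : (⟨U.1 ⊓ S, Set.mem_Iic.2 inf_le_right⟩ : Set.Iic S) ≤ ⟨V.1 ⊓ S, Set.mem_Iic.2 inf_le_right⟩ := inf_le_inf_right S hUV.le
  refine lt_of_le_of_ne ⟨h1, ?_⟩ fun e => hUV.ne (Subtype.ext ?_)
  · dsimp only
    split_ifs with h2 h3 h4 <;> first | exact absurd ((show U.1 ≤ V.1 from hUV.le).trans ‹V.1 ≤ S›) ‹¬ U.1 ≤ S› | simp
  · obtain ⟨e1, e2⟩ := Prod.mk.inj e
    refine eq_of_le_of_inf_le_of_sup_le (z := S) hUV.le (Subtype.ext_iff.1 e1).ge ?_
    by_cases hV : V.1 ≤ S
    · rw [sup_eq_right.2 hV]; exact le_sup_right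
    · have hU : ¬ U.1 ≤ S := fun hU => by simp [hU, hV] at e2
      have hU' : U.1 ⊔ S = T :=
        (h.eq_or_eq le_sup_right (sup_le U.2 h.le)).resolve_left fun e3 => hU (sup_eq_right.1 e3)
      rw [hU']
      exact sup_le V.2 h.le

theorem finiteLength_iff :
    (IsArtinianObject X ∧ IsNoetherianObject X) ↔
      ∃ (n : ℕ) (F : Fin (n + 1) → Subobject X) (hF : Monotone F), F 0 = ⊥ ∧ F (Fin.last n) = ⊤ ∧
        ∀ i : Fin n, Simple (quot (hF (Fin.castSucc_lt_succ (i := i)).le)) := by
  constructor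
  · rintro ⟨_, _⟩
    obtain ⟨a, h0, n, hn, hcov⟩ := exists_covBy_seq_of_wellFoundedLT_wellFoundedGT (Subobject X)
    have hF : Monotone fun i : Fin (n + 1) => a i.1 :=
      Fin.monotone_iff_le_succ.2 fun i => (hcov i.1 i.2).le
    exact ⟨n, fun i => a i.1, hF, isMin_iff_eq_bot.1 h0, isMax_iff_eq_top.1 hn,
      fun i => simple_of_covBy (hcov i.1 i.2)⟩
  · rintro ⟨n, F, hF, h0, hn, hs⟩
    have key : ∀ i : Fin (n + 1), WellFoundedLT (Set.Iic (F i)) ∧ WellFoundedGT (Set.Iic (F i)) := by
      intro i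
      induction i using Fin.induction with
      | zero =>
        rw [h0]
        haveI : Subsingleton (Set.Iic (⊥ : Subobject X)) :=
          ⟨fun a b => Subtype.ext ((le_bot_iff.1 a.2).trans (le_bot_iff.1 b.2).symm)⟩
        exact ⟨inferInstance, inferInstance⟩
      | succ i ih =>
        have := ih.1
        have := ih.2
        have hc := covBy_of_simple _ (hs i)
        exact ⟨wellFoundedLT_Iic hc, wellFoundedGT_Iic hc⟩
    obtain ⟨hlt, hgt⟩ := hn ▸ key (Fin.last n)
    let f : Subobject X → Set.Iic (⊤ : Subobject X) := fun U => ⟨U, Set.mem_Iic.2 le_top⟩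
    have hf : StrictMono f := fun a b h => h
    exact ⟨⟨hf.wellFoundedLT⟩, ⟨hf.wellFoundedGT⟩⟩

theorem jordan_holder (n : ℕ) (F : Fin (n + 1) → Subobject X) (hF : Monotone F) (hF0 : F 0 = ⊥)
    (hFn : F (Fin.last n) = ⊤) (hFs : ∀ i : Fin n, Simple (quot (hF (Fin.castSucc_lt_succ (i := i)).le)))
    (m : ℕ) (G : Fin (m + 1) → Subobject X) (hG : Monotone G) (hG0 : G 0 = ⊥) (hGm : G (Fin.last m) = ⊤)
    (hGs : ∀ j : Fin m, Simple (quot (hG (Fin.castSucc_lt_succ (i := j)).le))) :
    ∃ (e : n = m) (σ : Equiv.Perm (Fin m)), ∀ i : Fin n,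
      Nonempty (quot (hF (Fin.castSucc_lt_succ (i := i)).le) ≅
        quot (hG (Fin.castSucc_lt_succ (i := σ (Fin.cast e i))).le)) := by
  let s₁ : CompositionSeries (Subobject X) := ⟨n, F, fun i => covBy_of_simple _ (hFs i)⟩
  let s₂ : CompositionSeries (Subobject X) := ⟨m, G, fun i => covBy_of_simple _ (hGs i)⟩
  obtain ⟨f, hf⟩ := CompositionSeries.jordan_holder s₁ s₂ (hF0.trans hG0.symm) (hFn.trans hGm.symm)
  have e : n = m := by simpa using Fintype.card_congr f
  refine ⟨e, (finCongr e).symm.trans f, fun i => ?_⟩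
  let E : Subobject X × Subobject X → Subobject X × Subobject X → Prop := fun p q =>
    (p.1 ≤ p.2 ↔ q.1 ≤ q.2) ∧ ∀ (h : p.1 ≤ p.2) (h' : q.1 ≤ q.2), Nonempty (quot h ≅ quot h')
  have key := (hf i).rel E (fun {x} => ⟨Iff.rfl, fun _ _ => ⟨Iso.refl _⟩⟩)
    (fun {x y} h => ⟨h.1.symm, fun a b => ⟨(h.2 b a).some.symm⟩⟩)
    (fun {x y z} h h' => ⟨h.1.trans h'.1, fun a b => ⟨(h.2 a (h.1.1 a)).some ≪≫ (h'.2 (h.1.1 a) b).some⟩⟩)
    (fun {x y} _ => ⟨iff_of_true le_sup_left inf_le_right, fun _ _ => ⟨second_iso.some.symm⟩⟩)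
  exact key.2 _ _

end Groth.Agent.SubobjJH8
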